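import Groth.Agent.QCohAlgLib.Basic
import Groth.Agent.QCohLib.FiniteType
import Groth.Agent.QCohLib.Push
import Groth.Prelude.Def_RelSpec2

/-!
# Finite type of a direct image over the direct image algebra
-/

set_option autoImplicit false
set_option linter.style.haveILetI false
set_option backward.isDefEq.respectTransparency false
set_option backward.isDefEq.respectTransparency.types false

universe u

open CategoryTheory Limits Opposite TopologicalSpace AlgebraicGeometry
open Groth.Agent.FPLocal Groth.Agent.CohBase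

noncomputable section

namespace Groth.Agent.QCohAlgLib

variable {X : Scheme.{u}} {F : X.Modules}

/-- Near every point a section is a multiple of a section over the affine open. -/
theorem exists_eq_smul_res [Coh.IsQCoh F] {V : X.Opens} (hV : IsAffineOpen V) {W : X.Opens}
    (h : W ≤ V) (m : Γ(F, W)) {x : X} (hx : x ∈ W) :
    ∃ (D : X.Opens) (k : D ≤ W), x ∈ D ∧ ∃ (s : Γ(F, V)) (a : Γ(X, D)),
      F.presheaf.map (homOfLE k).op m = a • F.presheaf.map (homOfLE (k.trans h)).op s := by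
  obtain ⟨f, hfW, hxf⟩ := hV.exists_basicOpen_le (V := W) ⟨x, hx⟩ (h hx)
  obtain ⟨n, s, hs⟩ := (Groth.Agent.QCohLib.locAt F hV).extend f (F.presheaf.map (homOfLE hfW).op m)
  have hu : IsUnit (X.presheaf.map (homOfLE (X.basicOpen_le f)).op f) :=
    X.toRingedSpace.isUnit_res_basicOpen f
  obtain ⟨v, hv⟩ := hu.pow n
  refine ⟨_, hfW, hxf, s, ↑v⁻¹, ?_⟩
  have e : (↑v⁻¹ : Γ(X, X.basicOpen f)) * X.presheaf.map (homOfLE (X.basicOpen_le f)).op (f ^ n) = 1 := by
    rw [map_pow]
    exact (congrArg ((↑v⁻¹ : Γ(X, X.basicOpen f)) * ·) hv.symm).trans v.inv_mul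
  calc F.presheaf.map (homOfLE hfW).op m = (1 : Γ(X, X.basicOpen f)) • F.presheaf.map (homOfLE hfW).op m :=
        (one_smul _ _).symm
    _ = _ := by
      rw [← e, mul_smul]
      exact congrArg ((↑v⁻¹ : Γ(X, X.basicOpen f)) • ·) hs.symm

variable {S : Scheme.{u}} (f : X ⟶ S) [IsAffineHom f]

theorem isFiniteType_dirImg [hF : Coh.IsQCoh F]
    (h : SheafOfModules.IsFiniteType.{u} (R := X.ringCatSheaf) F) :
    SheafOfModules.IsFiniteType.{u} (R := AMod.ringSheaf (RelSpec.QCAlg.directImage f))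
      ((AMod.dirImg f).obj F) := by
  refine isFiniteType_of_hasGen _ fun U => ?_
  refine (show Locally (Opens.grothendieckTopology S) U fun V _ => HasGen ((AMod.dirImg f).obj F) V from
    locally_of_near (fun V' V l k hk => hk.restrict l) fun x hx => ?_)
  obtain ⟨W, hW, hxW, hWU⟩ := Opens.isBasis_iff_nbhd.1 S.isBasis_affineOpens hx
  refine ⟨W, homOfLE hWU, hxW, ?_⟩
  have hW' : IsAffineOpen (f ⁻¹ᵁ W) := hW.preimage f
  haveI := h
  haveI : Module.Finite Γ(X, f ⁻¹ᵁ W) Γ(F, f ⁻¹ᵁ W) := Groth.Agent.QCohLib.finite_sections F h hW'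
  obtain ⟨n, s, hs⟩ := Module.Finite.exists_fin (R := Γ(X, f ⁻¹ᵁ W)) (M := Γ(F, f ⁻¹ᵁ W))
  refine ⟨ULift.{u} (Fin n), inferInstance, fun i => s i.down, fun V g m => ?_⟩
  refine locally_of_near (P := fun D k => ∃ a : ULift.{u} (Fin n) → Γ(X, f ⁻¹ᵁ D),
    ∑ i, a i • F.presheaf.map ((Opens.map f.base).map (k ≫ g)).op (s i.down) =
      F.presheaf.map ((Opens.map f.base).map k).op m) (fun D' D l k hk => ?_) fun y hy => ?_
  · obtain ⟨a, ha⟩ := hk
    refine ⟨fun i => X.presheaf.map ((Opens.map f.base).map l).op (a i), ?_⟩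
    have e := congrArg (F.presheaf.map ((Opens.map f.base).map l).op) ha
    rw [map_sum] at e
    refine Eq.trans (Finset.sum_congr rfl fun i _ => ?_) (e.trans ?_)
    · rw [Scheme.Modules.map_smul]
      exact congrArg _ (restr_trans F ((Opens.map f.base).map (k ≫ g)).le
        ((Opens.map f.base).map l).le _).symm
    · exact restr_trans F ((Opens.map f.base).map k).le ((Opens.map f.base).map l).le _
  · let B : Sheaf (Opens.grothendieckTopology S) CommRingCat.{u} :=
      ⟨(RelSpec.QCAlg.directImage f).presheaf, (RelSpec.QCAlg.directImage f).isSheaf⟩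
    let φ : S.sheaf ⟶ B := ⟨(RelSpec.QCAlg.directImage f).str⟩
    let G : SheafOfModules.{u} (algRing B) := (AMod.dirImg f).obj F
    obtain ⟨D, k, hyD, t, a, ha⟩ := exists_basic_eq_smul (B := B) (φ := φ) (F := G)
      (Groth.Agent.QCohLib.isQCoh_pushforward (M := F) f) hW g m hy
    obtain ⟨c, hc⟩ := (Submodule.mem_span_range_iff_exists_fun _).1
      (hs ▸ Submodule.mem_top : (show Γ(F, f ⁻¹ᵁ W) from t) ∈ Submodule.span _ (Set.range s))
    refine ⟨D, k, hyD, fun i => (show Γ(X, f ⁻¹ᵁ D) from a) *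
      X.presheaf.map ((Opens.map f.base).map (k ≫ g)).op (c i.down), ?_⟩
    refine Eq.trans ?_ ha.symm
    show _ = (show Γ(X, f ⁻¹ᵁ D) from a) • F.presheaf.map ((Opens.map f.base).map (k ≫ g)).op t
    rw [← hc, map_sum, Finset.smul_sum]
    refine Fintype.sum_equiv Equiv.ulift _ _ fun i => ?_
    rw [Scheme.Modules.map_smul, smul_smul]
    rfl

theorem isFiniteType_of_dirImg [hF : Coh.IsQCoh F]
    (h : SheafOfModules.IsFiniteType.{u} (R := AMod.ringSheaf (RelSpec.QCAlg.directImage f))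
      ((AMod.dirImg f).obj F)) :
    SheafOfModules.IsFiniteType.{u} (R := X.ringCatSheaf) F := by
  refine isFiniteType_of_hasGen (R := X.ringCatSheaf) F fun U => ?_
  refine (show Locally (Opens.grothendieckTopology X) U fun V _ => HasGen (R := X.ringCatSheaf) F V from
    locally_of_near (fun V' V l k hk => hk.restrict l) fun x hx => ?_)
  haveI := h
  obtain ⟨V, g, hxV, hg⟩ := Locally.near (P := fun V _ => HasGen ((AMod.dirImg f).obj F) V)
    (exists_sieve_hasGen ((AMod.dirImg f).obj F) (⊤ : S.Opens)) (x := f.base x) trivial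
  obtain ⟨W, hW, hxW, hWV⟩ := Opens.isBasis_iff_nbhd.1 S.isBasis_affineOpens hxV
  obtain ⟨I, hI, s, hs⟩ := hg.restrict (homOfLE hWV)
  have hW' : IsAffineOpen (f ⁻¹ᵁ W) := hW.preimage f
  refine ⟨U ⊓ f ⁻¹ᵁ W, homOfLE inf_le_left, ⟨hx, hxW⟩, I, hI,
    fun i => F.presheaf.map (homOfLE inf_le_right).op (s i), fun V' g' m => ?_⟩
  refine locally_of_near (P := fun D k => ∃ a : I → Γ(X, D),
    ∑ i, a i • F.presheaf.map (k ≫ g').op (F.presheaf.map (homOfLE inf_le_right).op (s i)) =
      F.presheaf.map k.op m) (fun D' D l k hk => ?_) fun y hy => ?_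
  · obtain ⟨a, ha⟩ := hk
    refine ⟨fun i => X.presheaf.map l.op (a i), ?_⟩
    have e := congrArg (F.presheaf.map l.op) ha
    rw [map_sum] at e
    refine Eq.trans (Finset.sum_congr rfl fun i _ => ?_) (e.trans ?_)
    · rw [Scheme.Modules.map_smul]
      exact congrArg _ (restr_trans F (k ≫ g').le l.le _).symm
    · exact restr_trans F k.le l.le _
  · obtain ⟨D, hk, hyD, t, a, ha⟩ := exists_eq_smul_res hW' (g'.le.trans inf_le_right) m hy
    have hyW : y ∈ f ⁻¹ᵁ W := (g'.le.trans inf_le_right) hy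
    obtain ⟨D₂, k₂, hyD₂, c, hc⟩ := Locally.near
      (P := fun D₂ k₂ => ∃ c : I → Γ(X, f ⁻¹ᵁ D₂),
        ∑ i, c i • F.presheaf.map ((Opens.map f.base).map (k₂ ≫ 𝟙 W)).op (s i) =
          F.presheaf.map ((Opens.map f.base).map k₂).op t)
      (hs (𝟙 W) t) (x := f.base y) hyW
    let E : X.Opens := D ⊓ f ⁻¹ᵁ D₂
    refine ⟨E, homOfLE (inf_le_left.trans hk), ⟨hyD, hyD₂⟩,
      fun i => X.presheaf.map (homOfLE (inf_le_left : E ≤ D)).op a *
        X.presheaf.map (homOfLE (inf_le_right : E ≤ f ⁻¹ᵁ D₂)).op (c i), ?_⟩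
    have e1 := congrArg (F.presheaf.map (homOfLE (inf_le_left : E ≤ D)).op) ha
    rw [Scheme.Modules.map_smul, restr_trans, restr_trans] at e1
    refine Eq.trans ?_ e1.symm
    have e2 := congrArg (F.presheaf.map (homOfLE (inf_le_right : E ≤ f ⁻¹ᵁ D₂)).op) hc
    rw [map_sum] at e2
    refine Eq.trans ?_ (congrArg (X.presheaf.map (homOfLE (inf_le_left : E ≤ D)).op a • ·)
      (e2.trans (restr_trans F ((Opens.map f.base).map k₂).le inf_le_right t)))
    rw [Finset.smul_sum]
    refine Finset.sum_congr rfl fun i _ => ?_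
    rw [mul_smul, Scheme.Modules.map_smul]
    refine congrArg _ (congrArg _ ?_)
    refine Eq.trans ?_ (restr_trans F ((Opens.map f.base).map (k₂ ≫ 𝟙 W)).le inf_le_right (s i)).symm
    exact restr_trans F inf_le_right (homOfLE (inf_le_left.trans hk) ≫ g').le (s i)

end Groth.Agent.QCohAlgLib
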